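import Cfsg.Agent.Lib.SmallRee.Involution
import Cfsg.Agent.Lib.TwistedStr.StrG2

set_option autoImplicit false
set_option linter.unusedSectionVars false

/-! The abelian subgroup `U(0, u, v)`, its commutation with `U(t, 0, 0)`, and the torus action. -/

namespace CfsgLib.ReeDeg

open Cfsg.Lie CfsgLib.ChevStr CfsgLib.Twisted CfsgLib.SmallRee CfsgLib.Chev Matrix
open scoped MatrixGroups

section Var

variable {D : ChevalleyDatum} {F : Type*} [Field F] {p : ℕ} [CharP F p]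

theorem wordMat_eq_var {T : Data} (hv : T.Valid D) {W₁ W₂ : List Letter}
    (h : checkMod T p W₁ W₂ = true) (t u : F) :
    D.wordMat F (evalW t u W₁) = D.wordMat F (evalW t u W₂) := by
  simp only [checkMod, Bool.and_eq_true, List.all_eq_true, Nat.blt_eq, List.mem_range,
    List.isEmpty_iff] at h
  refine ext_unitFun fun c hc => ?_
  have h2 := congrArg (evalV D t u) (h.2 c (by rw [Data.rowsN, hv.hn, hv.hl]; exact hc))
  rw [evalV_redVec, evalV_append, evalV_negTerms, evalV_applyMod hv _ _ _ h.1.1,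
    evalV_applyMod hv _ _ _ h.1.2, evalV_unitVec, evalV_nil, ← sub_eq_add_neg, sub_eq_zero] at h2
  exact h2

end Var

/-- `U(1,0,0) U(0,u,0) = U(0,u,0) U(1,0,0) U(0,0,u)` as words in `w = u^θ` and `u`. -/
def swapWord : List Letter × List Letter :=
  ([⟨7, 1, 0, 0⟩, ⟨6, 1, 0, 0⟩, ⟨8, 1, 0, 0⟩, ⟨9, 1, 0, 0⟩, ⟨8, 1, 1, 0⟩, ⟨10, 1, 0, 1⟩],
    [⟨8, 1, 1, 0⟩, ⟨10, 1, 0, 1⟩, ⟨7, 1, 0, 0⟩, ⟨6, 1, 0, 0⟩, ⟨8, 1, 0, 0⟩, ⟨9, 1, 0, 0⟩, ⟨9, 1, 1, 0⟩,
      ⟨11, 1, 0, 1⟩])

theorem swap_check : checkMod CfsgLib.Chev.G2.cert.T 3 swapWord.1 swapWord.2 = true := by decide +kernel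

variable {K : Type*} [Field K] {m : ℕ}

theorem uni_mid (u v : K) : uni K m 0 u v =
    (coreG2 K).xGL g2ab (u ^ 3 ^ m) * (coreG2 K).xGL g2aab (v ^ 3 ^ m) * (coreG2 K).xGL g2aaab u *
      (coreG2 K).xGL g2aaabb v := by
  have hpos : 0 < 3 ^ m := Nat.pow_pos (by norm_num)
  simp [uni, reeWordU, ChevCore.wordGL_cons, ChevCore.wordGL_nil, (coreG2 K).xGL_zero, zero_pow hpos.ne',
    zero_pow (Nat.succ_ne_zero _), mul_assoc]

variable [CharP K 3]

theorem mid_comm' {r s : ℕ} (hr : r ∈ [g2ab, g2aab, g2aaab, g2aaabb]) (hs : s ∈ [g2ab, g2aab, g2aaab, g2aaabb])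
    (a b : K) : Commute ((coreG2 K).xGL r a) ((coreG2 K).xGL s b) :=
  mid_comm K ((coreG2 K).xGL_mem_Ucl hr a) ((coreG2 K).xGL_mem_Ucl hs b)

theorem uni_mid_add (u v u' v' : K) : uni K m 0 u v * uni K m 0 u' v' = uni K m 0 (u + u') (v + v') := by
  rw [uni_mid, uni_mid, uni_mid, frob_add K m, frob_add K m, (coreG2 K).xGL_add, (coreG2 K).xGL_add,
    (coreG2 K).xGL_add, (coreG2 K).xGL_add]
  set A := (coreG2 K).xGL g2ab (u ^ 3 ^ m)
  set B := (coreG2 K).xGL g2aab (v ^ 3 ^ m)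
  set C := (coreG2 K).xGL g2aaab u
  set D := (coreG2 K).xGL g2aaabb v
  set A' := (coreG2 K).xGL g2ab (u' ^ 3 ^ m)
  set B' := (coreG2 K).xGL g2aab (v' ^ 3 ^ m)
  set C' := (coreG2 K).xGL g2aaab u'
  set D' := (coreG2 K).xGL g2aaabb v'
  have hDA : Commute D A' := mid_comm' (by simp) (by simp) _ _
  have hDB : Commute D B' := mid_comm' (by simp) (by simp) _ _
  have hDC : Commute D C' := mid_comm' (by simp) (by simp) _ _
  have hCA : Commute C A' := mid_comm' (by simp) (by simp) _ _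
  have hCB : Commute C B' := mid_comm' (by simp) (by simp) _ _
  have hBA : Commute B A' := mid_comm' (by simp) (by simp) _ _
  calc A * B * C * D * (A' * B' * C' * D') = A * B * C * ((D * (A' * B' * C')) * D') := by simp only [mul_assoc]
    _ = A * B * C * (A' * B' * C' * D * D') := by rw [((hDA.mul_right hDB).mul_right hDC).eq]
    _ = A * B * ((C * (A' * B')) * C') * D * D' := by simp only [mul_assoc]
    _ = A * B * (A' * B' * C * C') * D * D' := by rw [(hCA.mul_right hCB).eq]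
    _ = A * (B * A') * B' * C * C' * D * D' := by simp only [mul_assoc]
    _ = A * (A' * B) * B' * C * C' * D * D' := by rw [hBA.eq]
    _ = A * A' * (B * B') * (C * C') * (D * D') := by simp only [mul_assoc]

theorem uni_mid_inv (u v : K) : (uni K m 0 u v)⁻¹ = uni K m 0 (-u) (-v) := by
  refine inv_eq_of_mul_eq_one_right ?_
  rw [uni_mid_add, add_neg_cancel, add_neg_cancel, uni_zero]

theorem uni_top_central (v : K) {x : GL chevG2.Idx K} (hx : x ∈ chevG2.posUnipotent K) :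
    Commute x (uni K m 0 0 v) := by
  refine top_central K ?_ hx
  have hpos : 0 < 3 ^ m := Nat.pow_pos (by norm_num)
  rw [uni_mid, zero_pow hpos.ne', (coreG2 K).xGL_zero, (coreG2 K).xGL_zero, one_mul, mul_one]
  exact mul_mem ((coreG2 K).xGL_mem_Ucl (by simp [listSet]) _) ((coreG2 K).xGL_mem_Ucl (by simp [listSet]) _)

variable [Fintype K] (hn : Fintype.card K = 3 * (3 ^ m * 3 ^ m))

theorem swap_one (u : K) :
    uni K m 1 0 0 * uni K m 0 u 0 = uni K m 0 u 0 * uni K m 1 0 0 * uni K m 0 0 u := by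
  have h := wordMat_eq_var (D := chevG2) (F := K) (p := 3) CfsgLib.Chev.G2.cert.hv swap_check (u ^ 3 ^ m) u
  have e : (coreG2 K).wordGL (evalW (u ^ 3 ^ m) u swapWord.1) =
      (coreG2 K).wordGL (evalW (u ^ 3 ^ m) u swapWord.2) :=
    Units.ext (by rw [ChevCore.coe_wordGL, ChevCore.coe_wordGL]; exact h)
  have hpos : 0 < 3 ^ m := Nat.pow_pos (by norm_num)
  have z : ∀ e : ℕ, (0 : K) ^ (e + 1) = 0 := fun e => zero_pow e.succ_ne_zero
  simp only [swapWord, evalW, Letter.param, List.map_cons, List.map_nil, ChevCore.wordGL_cons,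
    ChevCore.wordGL_nil] at e
  simpa [uni, reeWordU, ChevCore.wordGL_cons, ChevCore.wordGL_nil, (coreG2 K).xGL_zero,
    zero_pow hpos.ne', z, g2a, g2b, g2ab, g2aab, g2aaab, g2aaabb, mul_assoc] using e

include hn

theorem swap (t u : K) :
    uni K m t 0 0 * uni K m 0 u 0 = uni K m 0 u 0 * uni K m t 0 0 * uni K m 0 0 (t * u) := by
  rcases eq_or_ne t 0 with rfl | ht
  · rw [zero_mul, uni_zero, one_mul, mul_one, mul_one]
  set l := Units.mk0 t ht with hl
  have hlne : (l : K) ^ (3 * 3 ^ m + 1) ≠ 0 := pow_ne_zero _ l.ne_zero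
  set u₁ := ((l : K) ^ (3 * 3 ^ m + 1))⁻¹ * u with hu₁
  have e1 := tau_conj_uni K hn l 1 0 0
  have e2 := tau_conj_uni K hn l 0 u₁ 0
  have e3 := tau_conj_uni K hn l 0 0 u₁
  rw [mul_one, mul_zero, mul_zero, show ((l : K)) = t from rfl] at e1
  rw [mul_zero, mul_zero, hu₁, mul_inv_cancel_left₀ hlne] at e2
  rw [mul_zero, mul_zero, show (l : K) ^ (3 * 3 ^ m + 2) * u₁ = t * u by
    rw [hu₁, pow_succ (l : K) (3 * 3 ^ m + 1), mul_comm _ (l : K), mul_assoc, mul_inv_cancel_left₀ hlne]; rfl] at e3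
  rw [← e1, ← e2, ← e3, ← hu₁]
  have hs := congrArg (fun g => tau K m l * g * (tau K m l)⁻¹) (swap_one (m := m) u₁)
  simpa [mul_assoc] using hs

end CfsgLib.ReeDeg
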