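import Mathlib.GroupTheory.Transfer
import Mathlib.GroupTheory.Sylow
import Mathlib.GroupTheory.GroupAction.Quotient
import Mathlib.GroupTheory.FiniteAbelian.Duality
import Mathlib.RingTheory.RootsOfUnity.Complex
import Mathlib.RingTheory.RootsOfUnity.AlgebraicallyClosed
import Mathlib.Analysis.Complex.Polynomial.Basic

set_option autoImplicit false
set_option linter.style.haveILetI false

/-! In a perfect group with elementary abelian Sylow 2-subgroups of order 8 all involutions are conjugate. -/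

namespace CfsgLib.ReeDeg

open Subgroup
open scoped Classical

variable {G : Type*} [Group G] [Finite G]

theorem hom_eq_one_of_invariant (hG : commutator G = ⊤) (S : Sylow 2 G) [IsMulCommutative ↥(S : Subgroup G)]
    {A : Type*} [CommGroup A] (θ : ↥(S : Subgroup G) →* A)
    (hinv : ∀ (n : G) (x y : ↥(S : Subgroup G)), n ∈ normalizer ((S : Subgroup G) : Set G) → (y : G) = n⁻¹ * x * n → θ y = θ x)
    (hA : ∀ x, θ x * θ x = 1) (x : ↥(S : Subgroup G)) : θ x = 1 := by
  haveI : Fact (Nat.Prime 2) := ⟨Nat.prime_two⟩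
  have h1 : MonoidHom.transfer θ (x : G) = 1 := by
    have : commutator G ≤ (MonoidHom.transfer θ).ker := Abelianization.commutator_subset_ker _
    exact MonoidHom.mem_ker.mp (this (hG ▸ Subgroup.mem_top _))
  haveI := (S : Subgroup G).fintypeQuotientOfFiniteIndex
  rw [MonoidHom.transfer_eq_prod_quotient_orbitRel_zpowers_quot] at h1
  have key : ∀ (g : G) (k : ℕ) (hm : g⁻¹ * (x : G) ^ k * g ∈ (S : Subgroup G)),
      θ ⟨g⁻¹ * (x : G) ^ k * g, hm⟩ = θ x ^ k := by
    intro g k hm
    obtain ⟨n, hn, he⟩ := S.conj_eq_normalizer_conj_of_mem ((x : G) ^ k) g (pow_mem x.2 k) hm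
    rw [← map_pow]
    exact hinv n (x ^ k) _ hn (by rw [SubgroupClass.coe_pow]; exact he)
  rw [Finset.prod_congr rfl fun q _ => key _ _ _, Finset.prod_pow_eq_pow_sum, ← Subgroup.index_eq_sum_minimalPeriod] at h1
  have hodd : Odd (S : Subgroup G).index := Nat.not_even_iff_odd.mp fun he => S.not_dvd_index (even_iff_two_dvd.mp he)
  obtain ⟨r, hr⟩ := hodd
  rw [hr, pow_succ, pow_mul, pow_two, hA, one_pow, one_mul] at h1
  exact h1

theorem card_normalizer_quot_odd (S : Sylow 2 G) :
    Odd (Nat.card (↥(normalizer ((S : Subgroup G) : Set G)) ⧸ (S : Subgroup G).subgroupOf (normalizer ((S : Subgroup G) : Set G)))) := by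
  haveI : Fact (Nat.Prime 2) := ⟨Nat.prime_two⟩
  rw [← Subgroup.index_eq_card]
  refine Nat.not_even_iff_odd.mp fun he => S.not_dvd_index ?_
  refine (even_iff_two_dvd.mp he).trans ?_
  exact Subgroup.relIndex_dvd_index_of_le (Subgroup.le_normalizer)

theorem involutions_conj (hG : commutator G = ⊤) (hS : ∀ S : Sylow 2 G, Nat.card S = 8 ∧ ∀ x ∈ S, x * x = 1)
    {a b : G} (ha : orderOf a = 2) (hb : orderOf b = 2) : IsConj a b := by
  haveI : Fact (Nat.Prime 2) := ⟨Nat.prime_two⟩
  obtain ⟨S⟩ : Nonempty (Sylow 2 G) := inferInstance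
  obtain ⟨hcard, hexp⟩ := hS S
  have hcomm : IsMulCommutative ↥(S : Subgroup G) := ⟨⟨fun x y => by
    have hsq : ∀ z : ↥(S : Subgroup G), z * z = 1 := fun z => Subtype.ext (hexp z z.2)
    calc x * y = x * y * ((y * x) * (y * x)) := by rw [hsq, mul_one]
      _ = x * (y * y) * x * (y * x) := by simp only [mul_assoc]
      _ = y * x := by rw [hsq, mul_one, hsq, one_mul]⟩⟩
  set N := normalizer ((S : Subgroup G) : Set G) with hN
  set M := (S : Subgroup G).subgroupOf N with hM
  haveI hMn : M.Normal := Subgroup.normal_in_normalizer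
  let T := {x : ↥(S : Subgroup G) // x ≠ 1}
  have hmem : ∀ (n : N) (x : ↥(S : Subgroup G)), (n : G) * x * (n : G)⁻¹ ∈ (S : Subgroup G) := fun n x =>
    (Subgroup.mem_normalizer_iff.mp n.2 (x : G)).mp x.2
  let act : N →* Equiv.Perm T :=
    { toFun := fun n =>
        { toFun := fun x => ⟨⟨_, hmem n x.1⟩, fun h => x.2 (Subtype.ext (by
            simpa [mul_inv_eq_one, mul_eq_left] using congrArg Subtype.val h))⟩
          invFun := fun x => ⟨⟨_, hmem n⁻¹ x.1⟩, fun h => x.2 (Subtype.ext (by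
            have h' : (n : G)⁻¹ * (x.1 : G) * n = 1 := by simpa using congrArg Subtype.val h
            rw [show (x.1 : G) = n * ((n : G)⁻¹ * (x.1 : G) * n) * (n : G)⁻¹ by group, h']
            simp))⟩
          left_inv := fun x => Subtype.ext (Subtype.ext (by simp [mul_assoc]))
          right_inv := fun x => Subtype.ext (Subtype.ext (by simp [mul_assoc])) }
      map_one' := Equiv.ext fun x => Subtype.ext (Subtype.ext (by simp))
      map_mul' := fun m n => Equiv.ext fun x => Subtype.ext (Subtype.ext (by simp [mul_assoc])) }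
  have hker : M ≤ act.ker := by
    intro n hn
    refine MonoidHom.mem_ker.mpr (Equiv.ext fun x => Subtype.ext (Subtype.ext ?_))
    show (n : G) * (x.1 : G) * (n : G)⁻¹ = (x.1 : G)
    have h := congrArg Subtype.val (mul_comm' (⟨(n : G), hn⟩ : ↥(S : Subgroup G)) x.1)
    simp only [Subgroup.coe_mul] at h
    rw [h, mul_inv_cancel_right]
  let actQ : N ⧸ M →* Equiv.Perm T := QuotientGroup.lift M act hker
  letI : MulAction (N ⧸ M) T := MulAction.compHom T actQ
  haveI : Fintype T := Fintype.ofFinite _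
  haveI : Fintype ↥(S : Subgroup G) := Fintype.ofFinite _
  letI : CommGroup ↥(S : Subgroup G) := { (inferInstance : Group ↥(S : Subgroup G)) with mul_comm := mul_comm' }
  have hT : Nat.card T = 7 := by
    rw [Nat.card_eq_fintype_card]
    have h := Fintype.card_subtype_compl (fun x : ↥(S : Subgroup G) => x = 1)
    rw [Fintype.card_subtype_eq] at h
    have h8 : Fintype.card ↥(S : Subgroup G) = 8 := by rw [← Nat.card_eq_fintype_card]; exact hcard
    rw [h8] at h
    exact h
  have hodd : Odd (Nat.card (N ⧸ M)) := card_normalizer_quot_odd S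
  have horb : ∀ x : T, Odd (Nat.card (MulAction.orbit (N ⧸ M) x)) := fun x => by
    refine hodd.of_dvd_nat ?_
    rw [Nat.card_congr (MulAction.orbitEquivQuotientStabilizer (N ⧸ M) x)]
    exact Subgroup.card_quotient_dvd_card _
  -- no fixed point
  have hfix : ∀ x₀ : T, ¬ ∀ q : N ⧸ M, q • x₀ = x₀ := by
    intro x₀ h0
    obtain ⟨θ₀, hθ₀⟩ := CommGroup.exists_apply_ne_one_of_hasEnoughRootsOfUnity
      ↥(S : Subgroup G) ℂ (a := x₀.1) x₀.2
    have hsq : ∀ z : ↥(S : Subgroup G), θ₀ z * θ₀ z = 1 := fun z => by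
      rw [← map_mul, show z * z = 1 from Subtype.ext (hexp z z.2), map_one]
    haveI : Fintype (N ⧸ M) := Fintype.ofFinite _
    let conjS : N → ↥(S : Subgroup G) →* ↥(S : Subgroup G) := fun n =>
      { toFun := fun z => ⟨_, hmem n z⟩
        map_one' := Subtype.ext (by simp)
        map_mul' := fun y z => Subtype.ext (by simp [mul_assoc]) }
    have hconst : ∀ n n' : N, (n : N ⧸ M) = n' → ∀ z, conjS n z = conjS n' z := by
      intro n n' h z
      obtain ⟨⟨s, hs⟩, hs'⟩ : ∃ s : M, n * s = n' := ⟨⟨n⁻¹ * n', QuotientGroup.eq.mp h⟩, by simp⟩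
      refine Subtype.ext ?_
      show (n : G) * z * (n : G)⁻¹ = (n' : G) * z * (n' : G)⁻¹
      have hc := congrArg Subtype.val (mul_comm' (⟨(s : G), hs⟩ : ↥(S : Subgroup G)) z)
      simp only [Subgroup.coe_mul] at hc
      rw [← hs', Subgroup.coe_mul]
      calc (n : G) * z * (n : G)⁻¹ = (n : G) * ((z : G) * s * (s : G)⁻¹) * (n : G)⁻¹ := by rw [mul_inv_cancel_right]
        _ = _ := by rw [← hc]; simp only [mul_assoc, _root_.mul_inv_rev]
    let θ : ↥(S : Subgroup G) →* ℂˣ :=
      { toFun := fun z => ∏ q : N ⧸ M, θ₀ (conjS q.out z)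
        map_one' := by simp
        map_mul' := fun y z => by simp only [map_mul, Finset.prod_mul_distrib] }
    have hθ := hom_eq_one_of_invariant hG S θ (fun n x y hn he => by
      show ∏ q : N ⧸ M, _ = ∏ q : N ⧸ M, _
      refine Fintype.prod_equiv (Equiv.mulRight (((⟨n, hn⟩⁻¹ : N)) : N ⧸ M)) _ _ fun q => ?_
      congr 1
      rw [hconst (Equiv.mulRight ((⟨n, hn⟩⁻¹ : N) : N ⧸ M) q).out (q.out * (⟨n, hn⟩⁻¹ : N))
        (by rw [QuotientGroup.mk_mul, QuotientGroup.out_eq', QuotientGroup.out_eq']; rfl)]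
      refine Subtype.ext ?_
      show (q.out : G) * (y : G) * (q.out : G)⁻¹ = ((q.out : G) * n⁻¹) * x * ((q.out : G) * n⁻¹)⁻¹
      rw [he]; group) (fun z => by rw [← map_mul, show z * z = 1 from Subtype.ext (hexp z z.2), map_one]) x₀.1
    have hval : ∀ q : N ⧸ M, θ₀ (conjS q.out x₀.1) = θ₀ x₀.1 := fun q => by
      congr 1
      have h1 := congrArg Subtype.val (h0 q)
      rw [← QuotientGroup.out_eq' q] at h1
      exact h1
    change ∏ q : N ⧸ M, _ = 1 at hθ
    rw [Finset.prod_congr rfl fun q _ => hval q, Finset.prod_const, Finset.card_univ, ← Nat.card_eq_fintype_card] at hθ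
    obtain ⟨r, hr⟩ := hodd
    rw [hr, pow_succ, pow_mul, pow_two, hsq, one_pow, one_mul] at hθ
    exact hθ₀ hθ
  have hge : ∀ x : T, 3 ≤ Nat.card (MulAction.orbit (N ⧸ M) x) := fun x => by
    have h1 : Nat.card (MulAction.orbit (N ⧸ M) x) ≠ 1 := fun h1 => hfix x fun q => by
      haveI := (Nat.card_eq_one_iff_unique.mp h1).1
      exact congrArg Subtype.val
        (Subsingleton.elim (⟨q • x, MulAction.mem_orbit x q⟩ : MulAction.orbit (N ⧸ M) x) ⟨x, MulAction.mem_orbit_self x⟩)
    obtain ⟨r, hr⟩ := horb x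
    omega
  have htr : ∀ x y : T, y ∈ MulAction.orbit (N ⧸ M) x := by
    intro x y
    by_contra hy
    set O₁ := MulAction.orbit (N ⧸ M) x
    set O₂ := MulAction.orbit (N ⧸ M) y
    have hd : Disjoint O₁ O₂ := by
      rw [Set.disjoint_left]
      intro z hz1 hz2
      refine hy ?_
      rw [show O₁ = O₂ from (MulAction.orbit_eq_iff.mpr hz1).symm.trans (MulAction.orbit_eq_iff.mpr hz2)]
      exact MulAction.mem_orbit_self y
    have h12 : (O₁ ∪ O₂).ncard = O₁.ncard + O₂.ncard := Set.ncard_union_eq hd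
    by_cases huniv : O₁ ∪ O₂ = Set.univ
    · rw [huniv, Set.ncard_univ, hT] at h12
      obtain ⟨r, hr⟩ := horb x
      obtain ⟨s, hs⟩ := horb y
      have hr' : O₁.ncard = 2 * r + 1 := by rw [← Nat.card_coe_set_eq]; exact hr
      have hs' : O₂.ncard = 2 * s + 1 := by rw [← Nat.card_coe_set_eq]; exact hs
      omega
    · obtain ⟨z, hz⟩ := (Set.ne_univ_iff_exists_notMem _).mp huniv
      set O₃ := MulAction.orbit (N ⧸ M) z
      have hd3 : Disjoint (O₁ ∪ O₂) O₃ := by
        rw [Set.disjoint_left]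
        rintro w (hw | hw) hw3
        · refine hz (Or.inl ?_)
          rw [show O₁ = O₃ from (MulAction.orbit_eq_iff.mpr hw).symm.trans (MulAction.orbit_eq_iff.mpr hw3)]
          exact MulAction.mem_orbit_self z
        · refine hz (Or.inr ?_)
          rw [show O₂ = O₃ from (MulAction.orbit_eq_iff.mpr hw).symm.trans (MulAction.orbit_eq_iff.mpr hw3)]
          exact MulAction.mem_orbit_self z
      have h123 := Set.ncard_union_eq hd3
      have hle := Set.ncard_le_card (O₁ ∪ O₂ ∪ O₃)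
      rw [h123, h12, hT, ← Nat.card_coe_set_eq, ← Nat.card_coe_set_eq, ← Nat.card_coe_set_eq] at hle
      have : 3 ≤ Nat.card O₁ := hge x
      have : 3 ≤ Nat.card O₂ := hge y
      have : 3 ≤ Nat.card O₃ := hge z
      omega
  have intoS : ∀ c : G, orderOf c = 2 → ∃ (g : G) (h : g * c * g⁻¹ ∈ (S : Subgroup G)), (⟨_, h⟩ : ↥(S : Subgroup G)) ≠ 1 := by
    intro c hc
    have hp : IsPGroup 2 ↥(Subgroup.zpowers c) := IsPGroup.of_card (n := 1) (by rw [Nat.card_zpowers, hc, pow_one])
    obtain ⟨P, hP⟩ := hp.exists_le_sylow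
    obtain ⟨g, hg⟩ := MulAction.exists_smul_eq G P S
    have h : g * c * g⁻¹ ∈ (S : Subgroup G) := by
      rw [← hg, Sylow.coe_subgroup_smul]
      exact Subgroup.smul_mem_pointwise_smul c (MulAut.conj g) _ (hP (Subgroup.mem_zpowers c))
    refine ⟨g, h, fun he => ?_⟩
    have := congrArg Subtype.val he
    rw [OneMemClass.coe_one, mul_inv_eq_one, mul_eq_left] at this
    rw [this, orderOf_one] at hc
    norm_num at hc
  obtain ⟨g, hg, hg'⟩ := intoS a ha
  obtain ⟨k, hk, hk'⟩ := intoS b hb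
  obtain ⟨q, hq⟩ := htr ⟨_, hg'⟩ ⟨_, hk'⟩
  obtain ⟨n, rfl⟩ := QuotientGroup.mk_surjective q
  have e : (n : G) * (g * a * g⁻¹) * (n : G)⁻¹ = k * b * k⁻¹ := congrArg (fun z : T => ((z.1 : ↥(S : Subgroup G)) : G)) hq
  exact (isConj_iff.mpr ⟨g, rfl⟩).trans ((isConj_iff.mpr ⟨(n : G), e⟩).trans (isConj_iff.mpr ⟨k, rfl⟩).symm)

end CfsgLib.ReeDeg
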