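import Cfsg.Agent.Lib.ReeDeg.Center
import Cfsg.Agent.Lib.ReeDeg.FusionEight
import Cfsg.Agent.Lib.SLMinDeg.Fourier
import Cfsg.Agent.Lib.CharBound.Irreducible
import Cfsg.Agent.S1152

set_option autoImplicit false
set_option linter.unusedSectionVars false
set_option linter.style.haveILetI false

/-!
Irreducible representations of the small Ree groups: the central characters of a Sylow 3-subgroup give
degree `≥ q (q - 1)`, and equality would make a four group have a fixed space of dimension `q (q - 1) / 4`.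
-/

namespace CfsgLib.ReeDeg

open Cfsg.Lie CfsgLib.ChevStr CfsgLib.Twisted CfsgLib.SmallRee CfsgLib.KnownSimple.ModulePerm CfsgLib.SLMinDeg
  Matrix
open scoped MatrixGroups

variable {K : Type*} [Field K] [Fintype K] [DecidableEq K] {m : ℕ} [CharP K 3]
  (hn : Fintype.card K = 3 * (3 ^ m * 3 ^ m))
variable {V : Type*} [AddCommGroup V] [Module ℂ V] [FiniteDimensional ℂ V]

/-- The element `U(0, w₀, w₁)`. -/
noncomputable def midElt (m : ℕ) (w : Fin 2 → K) : ↥(twistedG2 K (3 ^ m)) :=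
  ⟨uni K m 0 (w 0) (w 1), (Subgroup.mem_inf.1 (uni_mem_U1 K m _ _ _)).2⟩

theorem midElt_add (v w : Fin 2 → K) : midElt m v * midElt m w = midElt m (v + w) :=
  Subtype.ext (uni_mid_add _ _ _ _)

theorem normalizes (g : ↥(twistedG2 K (3 ^ m))) (x : GL chevG2.Idx K) (hx : (g : GL chevG2.Idx K) = x)
    (w w' : Fin 2 → K) (h : x * uni K m 0 (w 0) (w 1) = uni K m 0 (w' 0) (w' 1) * x) :
    g * midElt m w = midElt m w' * g := by
  subst hx
  exact Subtype.ext h

include hn

theorem pow_inj {a b : Kˣ} (h : (a : K) ^ (3 * 3 ^ m + 2) = (b : K) ^ (3 * 3 ^ m + 2)) : a = b := by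
  suffices key : ∀ l : Kˣ, (l : K) ^ (3 * 3 ^ m + 2) = 1 → l = 1 by
    refine div_eq_one.mp (key (a / b) ?_)
    rw [Units.val_div_eq_div_val, div_pow, h, div_self (pow_ne_zero _ b.ne_zero)]
  intro l h
  have h9 : ((l : K) ^ (3 * 3 ^ m)) ^ (3 * 3 ^ m) = (l : K) ^ 3 := by
    rw [← pow_mul, show 3 * 3 ^ m * (3 * 3 ^ m) = 3 * (3 ^ m * 3 ^ m) * 3 by ring, pow_mul,
      CfsgLib.SmallRee.pow_q K hn]
  rw [pow_add] at h
  have e' : (l : K) ^ (3 * 3 ^ m) = ((l : K) ^ 2)⁻¹ := eq_inv_of_mul_eq_one_left h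
  rw [e', inv_pow, ← pow_mul, mul_comm, pow_mul, e', inv_pow, inv_inv, ← pow_mul] at h9
  have hl0 : (l : K) ^ 3 ≠ 0 := pow_ne_zero _ l.ne_zero
  rw [show (2 * 2 : ℕ) = 3 + 1 from rfl, pow_succ] at h9
  exact Units.ext (mul_left_cancel₀ hl0 (h9.trans (mul_one _).symm))

theorem exists_pow {c : K} (hc : c ≠ 0) : ∃ l : Kˣ, (l : K) ^ (3 * 3 ^ m + 2) = c := by
  have hinj : Function.Injective fun l : Kˣ => l ^ (3 * 3 ^ m + 2) := fun a b h =>
    pow_inj hn (by simpa using congrArg Units.val h)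
  obtain ⟨l, hl⟩ := Finite.injective_iff_surjective.mp hinj (Units.mk0 c hc)
  exact ⟨l, by simpa using congrArg Units.val hl⟩

variable (ρ : Representation ℂ ↥(twistedG2 K (3 ^ m)) V)

omit hn in
theorem trace_eq_of_normalizes (g : ↥(twistedG2 K (3 ^ m))) (ψ φ : Fin 2 → K)
    (h : ρ g * proj ρ (midElt m) φ = proj ρ (midElt m) ψ * ρ g) :
    LinearMap.trace ℂ V (proj ρ (midElt m) φ) = LinearMap.trace ℂ V (proj ρ (midElt m) ψ) := by
  have : proj ρ (midElt m) φ = ρ g⁻¹ * (proj ρ (midElt m) ψ * ρ g) := by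
    rw [← h, ← mul_assoc, ← map_mul, inv_mul_cancel, map_one, one_mul]
  rw [this, LinearMap.trace_mul_comm, mul_assoc, ← map_mul, mul_inv_cancel, map_one, mul_one]

theorem trace_tau (l : Kˣ) (ψ : Fin 2 → K) :
    LinearMap.trace ℂ V (proj ρ (midElt m) ![(l : K) ^ (3 * 3 ^ m + 1) * ψ 0, (l : K) ^ (3 * 3 ^ m + 2) * ψ 1]) =
      LinearMap.trace ℂ V (proj ρ (midElt m) ψ) := by
  set g : ↥(twistedG2 K (3 ^ m)) := ⟨tau K m l, (Subgroup.mem_inf.1 (tau_mem_H1 K hn l)).2⟩
  let A : (Fin 2 → K) → (Fin 2 → K) := fun w => ![(l : K) ^ (3 * 3 ^ m + 1) * w 0, (l : K) ^ (3 * 3 ^ m + 2) * w 1]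
  have hA : Function.Bijective A := Finite.injective_iff_bijective.mp fun v w h => by
    funext i
    fin_cases i
    · exact mul_left_cancel₀ (pow_ne_zero _ l.ne_zero) (congrFun h 0)
    · exact mul_left_cancel₀ (pow_ne_zero _ l.ne_zero) (congrFun h 1)
  refine trace_eq_of_normalizes ρ g _ _ (rho_mul_proj_of_normalizes ρ g (Equiv.ofBijective A hA) (fun w => ?_) _ _ fun w => ?_)
  · refine normalizes g (tau K m l) rfl w _ ?_
    simp only [Equiv.ofBijective_apply, A, Matrix.cons_val_zero, Matrix.cons_val_one]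
    rw [← mul_inv_eq_iff_eq_mul, tau_conj_uni K hn, mul_zero]
  · simp [A, dotProduct, Fin.sum_univ_two]
    ring

theorem trace_shift (t : K) (ψ : Fin 2 → K) :
    LinearMap.trace ℂ V (proj ρ (midElt m) ![ψ 0 + t * ψ 1, ψ 1]) =
      LinearMap.trace ℂ V (proj ρ (midElt m) ψ) := by
  set g : ↥(twistedG2 K (3 ^ m)) := ⟨uni K m t 0 0, (Subgroup.mem_inf.1 (uni_mem_U1 K m _ _ _)).2⟩
  let A : (Fin 2 → K) → (Fin 2 → K) := fun w => ![w 0, t * w 0 + w 1]
  have hA : Function.Bijective A := Finite.injective_iff_bijective.mp fun v w h => by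
    have h0 : v 0 = w 0 := congrFun h 0
    have h1 : t * v 0 + v 1 = t * w 0 + w 1 := congrFun h 1
    funext i
    fin_cases i
    · exact h0
    · show v 1 = w 1
      rw [h0] at h1
      exact add_left_cancel h1
  refine trace_eq_of_normalizes ρ g _ _ (rho_mul_proj_of_normalizes ρ g (Equiv.ofBijective A hA) (fun w => ?_) _ _ fun w => ?_)
  · refine normalizes g (uni K m t 0 0) rfl w _ ?_
    simp only [Equiv.ofBijective_apply, A, Matrix.cons_val_zero, Matrix.cons_val_one]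
    have hp : ∀ a b c : K, uni K m a b c ∈ chevG2.posUnipotent K := fun a b c => (Subgroup.mem_inf.1 (uni_mem_U1 K m a b c)).1
    have e1 : uni K m 0 (w 0) (w 1) = uni K m 0 (w 0) 0 * uni K m 0 0 (w 1) := by
      rw [uni_mid_add, add_zero, zero_add]
    rw [e1, ← mul_assoc, swap hn, mul_assoc (uni K m 0 (w 0) 0 * uni K m t 0 0), uni_mid_add, add_zero,
      mul_assoc, (uni_top_central _ (hp t 0 0)).eq, ← mul_assoc, uni_mid_add, add_zero, zero_add]
  · simp [A, dotProduct, Fin.sum_univ_two]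
    ring

theorem degree_gt (hm : 1 ≤ m) [ρ.IsIrreducible] (hk : 2 ≤ Module.finrank ℂ V) :
    Fintype.card K * (Fintype.card K - 1) + 1 ≤ Module.finrank ℂ V := by
  classical
  have hsimp := (isSimpleG2 K hn hm).1
  have hperf := perfectG2Twisted K hn hm
  have hT : ∀ v w : Fin 2 → K, midElt m v * midElt m w = midElt m (v + w) := midElt_add
  set E := proj ρ (midElt m) with hE
  set r : (Fin 2 → K) → ℕ := fun ψ => Module.finrank ℂ (LinearMap.range (E ψ)) with hr
  have hidem : ∀ ψ : Fin 2 → K, E ψ * E ψ = E ψ := fun ψ => by rw [hE, proj_mul_proj ρ hT, if_pos rfl]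
  have htr : ∀ ψ : Fin 2 → K, (r ψ : ℂ) = LinearMap.trace ℂ V (E ψ) := fun ψ => (trace_eq_finrank_range _ (hidem ψ)).symm
  have hksum : Module.finrank ℂ V = ∑ ψ : Fin 2 → K, r ψ := by
    have h1 : (Module.finrank ℂ V : ℂ) = ∑ ψ : Fin 2 → K, (r ψ : ℂ) := by
      simp only [htr, hE, ← map_sum, sum_proj ρ hT, LinearMap.trace_one]
    exact_mod_cast h1
  set R := r ![0, 1] with hR
  have hrR : ∀ ψ : Fin 2 → K, ψ 1 ≠ 0 → r ψ = R := by
    intro ψ hψ
    obtain ⟨l, hl⟩ := exists_pow hn hψ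
    have h1 := trace_tau hn ρ l ![0, 1]
    have h2 := trace_shift hn ρ (ψ 0 / ψ 1) ![0, ψ 1]
    have e1 : (![(l : K) ^ (3 * 3 ^ m + 1) * (![0, 1] : Fin 2 → K) 0,
        (l : K) ^ (3 * 3 ^ m + 2) * (![0, 1] : Fin 2 → K) 1] : Fin 2 → K) = ![0, ψ 1] := by
      funext i; fin_cases i <;> simp [hl]
    have e2 : (![(![0, ψ 1] : Fin 2 → K) 0 + ψ 0 / ψ 1 * (![0, ψ 1] : Fin 2 → K) 1, (![0, ψ 1] : Fin 2 → K) 1] :
        Fin 2 → K) = ψ := by
      funext i; fin_cases i <;> simp [hψ]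
    rw [e1] at h1
    rw [e2, h1, ← htr, ← htr] at h2
    exact_mod_cast h2
  have hR0 : R ≠ 0 := by
    intro hR0
    have hz : ∀ ψ : Fin 2 → K, ψ 1 ≠ 0 → E ψ = 0 := fun ψ hψ =>
      LinearMap.range_eq_bot.mp (Submodule.finrank_eq_zero.mp ((hrR ψ hψ).trans hR0))
    have hker : ρ (midElt m ![0, 1]) = 1 := by
      rw [rho_eq_sum ρ hT, ← sum_proj ρ hT]
      refine Finset.sum_congr rfl fun ψ _ => ?_
      by_cases hψ : ψ 1 = 0
      · have : ψ ⬝ᵥ ![0, 1] = 0 := by simp [dotProduct, Fin.sum_univ_two, hψ]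
        rw [this, AddChar.map_zero_eq_one, one_smul]
      · rw [show proj ρ (midElt m) ψ = 0 from hz ψ hψ, smul_zero]
    let N : Subgroup ↥(twistedG2 K (3 ^ m)) := ρ.toHomUnits.ker
    have hN : ∀ g, g ∈ N ↔ ρ g = 1 := fun g => Units.ext_iff
    rcases hsimp.eq_bot_or_eq_top_of_normal N inferInstance with h | h
    · have h1 : midElt m ![(0 : K), 1] = 1 := Subgroup.mem_bot.mp (h ▸ (hN _).mpr hker)
      have h2 := congrArg Subtype.val h1
      rw [midElt, OneMemClass.coe_one] at h2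
      have := ((uni_eq_one_iff K m).1 h2).2.2
      simp at this
    · have := CfsgLib.CharBound.finrank_eq_one_of_trivial ρ inferInstance fun g => (hN g).mp (h ▸ Subgroup.mem_top g)
      omega
  set S := (Finset.univ : Finset (Fin 2 → K)).filter fun ψ => ψ 1 ≠ 0 with hS
  have hcardS : S.card = Fintype.card K * (Fintype.card K - 1) := by
    rw [hS, ← Fintype.card_subtype, ← Fintype.card_units, ← Fintype.card_prod]
    refine Fintype.card_congr
      { toFun := fun ψ => (ψ.1 0, Units.mk0 (ψ.1 1) ψ.2)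
        invFun := fun p => ⟨![p.1, (p.2 : K)], by simp⟩
        left_inv := fun ψ => Subtype.ext (by funext i; fin_cases i <;> rfl)
        right_inv := fun p => Prod.ext rfl (Units.ext rfl) }
  have hsplit : Module.finrank ℂ V = S.card * R + ∑ ψ ∈ Finset.univ.filter (fun ψ : Fin 2 → K => ¬ ψ 1 ≠ 0), r ψ := by
    rw [hksum, ← Finset.sum_filter_add_sum_filter_not Finset.univ (fun ψ : Fin 2 → K => ψ 1 ≠ 0),
      Finset.sum_congr rfl fun ψ hψ => hrR ψ (Finset.mem_filter.mp hψ).2, Finset.sum_const, smul_eq_mul]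
  by_contra hcon
  push Not at hcon
  rw [hcardS] at hsplit
  set q := Fintype.card K with hq
  have hq2 : 2 ≤ q := Fintype.one_lt_card
  have hpos : 1 ≤ q * (q - 1) := Nat.mul_pos (by omega) (by omega)
  have hR1 : R = 1 := by
    by_contra hne
    have : q * (q - 1) * 2 ≤ q * (q - 1) * R := Nat.mul_le_mul_left _ (by omega)
    omega
  rw [hR1, mul_one] at hsplit
  have hk' : Module.finrank ℂ V = q * (q - 1) := by omega
  have hzero : ∀ ψ : Fin 2 → K, ψ 1 = 0 → E ψ = 0 := by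
    intro ψ hψ
    have : r ψ ≤ ∑ φ ∈ Finset.univ.filter (fun ψ : Fin 2 → K => ¬ ψ 1 ≠ 0), r φ :=
      Finset.single_le_sum (fun _ _ => Nat.zero_le _) (Finset.mem_filter.mpr ⟨Finset.mem_univ _, by simp [hψ]⟩)
    exact LinearMap.range_eq_bot.mp (Submodule.finrank_eq_zero.mp (show r ψ = 0 by omega))
  -- the diagonal involution
  set j : ↥(twistedG2 K (3 ^ m)) := ⟨invol K m, (Subgroup.mem_inf.1 (invol_mem_H1 hn)).2⟩ with hj
  have hj2 : j * j = 1 := Subtype.ext invol_mul_self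
  have hj1 : j ≠ 1 := fun h => invol_ne_one (congrArg Subtype.val h)
  have hord : ∀ x : ↥(twistedG2 K (3 ^ m)), x * x = 1 → x ≠ 1 → orderOf x = 2 := fun x hx hx1 =>
    haveI : Fact (Nat.Prime 2) := ⟨Nat.prime_two⟩
    orderOf_eq_prime (by rw [pow_two, hx]) hx1
  have hjtr : ρ.character j = 0 := by
    rw [Representation.character, ← mul_one (ρ j), ← sum_proj ρ hT, Finset.mul_sum, map_sum]
    refine Finset.sum_eq_zero fun ψ _ => ?_
    by_cases hψ : ψ 1 = 0
    · rw [show proj ρ (midElt m) ψ = 0 from hzero ψ hψ, mul_zero, map_zero]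
    · let A : (Fin 2 → K) → (Fin 2 → K) := fun w =>
        ![((-1 : Kˣ) : K) ^ (3 * 3 ^ m + 1) * w 0, ((-1 : Kˣ) : K) ^ (3 * 3 ^ m + 2) * w 1]
      have hA : Function.Bijective A := Finite.injective_iff_bijective.mp fun v w h => by
        funext i
        fin_cases i
        · exact mul_left_cancel₀ (pow_ne_zero _ (-1 : Kˣ).ne_zero) (congrFun h 0)
        · exact mul_left_cancel₀ (pow_ne_zero _ (-1 : Kˣ).ne_zero) (congrFun h 1)
      have hodd : Odd (3 * 3 ^ m + 2) := by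
        obtain ⟨r, hr⟩ : Odd (3 * 3 ^ m) := (Nat.odd_iff.mpr (by norm_num)).mul (Odd.pow (by decide))
        exact ⟨r + 1, by omega⟩
      have heven : Even (3 * 3 ^ m + 1) := by
        obtain ⟨r, hr⟩ := hodd
        exact ⟨r, by omega⟩
      have hAv : ∀ w, A w = ![w 0, -w 1] := fun w => by
        funext i; fin_cases i <;> simp [A, hodd.neg_one_pow, heven.neg_one_pow]
      have hsw := rho_mul_proj_of_normalizes (T := midElt m) ρ j (Equiv.ofBijective A hA) (fun w => by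
        refine normalizes j (tau K m (-1)) rfl w _ ?_
        simp only [Equiv.ofBijective_apply, A, Matrix.cons_val_zero, Matrix.cons_val_one]
        rw [← mul_inv_eq_iff_eq_mul, tau_conj_uni K hn, mul_zero]) ![ψ 0, -ψ 1] ψ (fun w => by
        show _ ⬝ᵥ A w = _
        rw [hAv]
        simp [dotProduct, Fin.sum_univ_two])
      have hne : ψ ≠ ![ψ 0, -ψ 1] := fun h => hψ (by
        have h1 := congrFun h 1
        simp at h1
        have h2 : (2 : K) * ψ 1 = 0 := by linear_combination h1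
        exact (mul_eq_zero.mp h2).resolve_left two_ne_zero')
      have e : proj ρ (midElt m) ψ * proj ρ (midElt m) ψ = proj ρ (midElt m) ψ := hidem ψ
      rw [← e, ← mul_assoc, hsw, mul_assoc, LinearMap.trace_mul_comm, mul_assoc, proj_mul_proj ρ hT, if_neg hne,
        mul_zero, map_zero]
  have hK' : Fintype.card K = 3 ^ (2 * m + 1) := by rw [← hq, hn, two_mul, pow_succ, pow_add, mul_comm]
  have hjdiag : (j : GL chevG2.Idx K) ∈ chevG2.diagonalSubgroup K := tau_mem_diagonal K m _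
  obtain ⟨-, hSyl⟩ := Cfsg.Agent.S1152.result hK' j hjdiag hj1 hj2
  have hconj := fun {a b : ↥(twistedG2 K (3 ^ m))} (ha : orderOf a = 2) (hb : orderOf b = 2) =>
    involutions_conj hperf hSyl ha hb
  have hz : ∀ x : ↥(twistedG2 K (3 ^ m)), x * x = 1 → x ≠ 1 → ρ.character x = 0 := by
    intro x hx hx1
    obtain ⟨g, hg⟩ := isConj_iff.mp (hconj (hord x hx hx1) (hord j hj2 hj1))
    rw [← ρ.char_conj x g, hg, hjtr]
  haveI : Fact (Nat.Prime 2) := ⟨Nat.prime_two⟩
  obtain ⟨P, hP⟩ := (IsPGroup.of_card (n := 1) (by rw [Nat.card_zpowers, hord j hj2 hj1, pow_one]) :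
    IsPGroup 2 ↥(Subgroup.zpowers j)).exists_le_sylow
  obtain ⟨hP8, hPexp⟩ := hSyl P
  obtain ⟨i, hiP, hi1, hij⟩ : ∃ i, i ∈ (P : Subgroup ↥(twistedG2 K (3 ^ m))) ∧ i ≠ 1 ∧ i ≠ j := by
    by_contra hnone
    push Not at hnone
    have h1 : ((P : Subgroup ↥(twistedG2 K (3 ^ m))) : Set ↥(twistedG2 K (3 ^ m))) ⊆ {1, j} := fun x hx => by
      rcases eq_or_ne x 1 with h | h
      · exact Or.inl h
      · exact Or.inr (hnone x hx h)
    have h2 := Set.ncard_le_ncard h1
    rw [Set.ncard_pair hj1.symm, ← Nat.card_coe_set_eq] at h2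
    have h3 : Nat.card ↥(P : Subgroup ↥(twistedG2 K (3 ^ m))) = 8 := hP8
    change Nat.card ↥(P : Subgroup ↥(twistedG2 K (3 ^ m))) ≤ 2 at h2
    omega
  have hjP : j ∈ (P : Subgroup ↥(twistedG2 K (3 ^ m))) := hP (Subgroup.mem_zpowers j)
  have hii : i * i = 1 := hPexp i hiP
  have hsq : (j * i) * (j * i) = 1 := hPexp _ (mul_mem hjP hiP)
  have hcomm : i * j = j * i := by
    calc i * j = (j * (j * i * (j * i)) * i) := by
          rw [show j * (j * i * (j * i)) * i = j * j * (i * j) * (i * i) by simp only [mul_assoc], hj2, hii, one_mul,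
            mul_one]
      _ = j * i := by rw [hsq, mul_one]
  have hji1 : j * i ≠ 1 := fun h => hij (by
    calc i = j * j * i := by rw [hj2, one_mul]
      _ = j := by rw [mul_assoc, h, mul_one])
  set J := ρ j with hJ
  set I := ρ i with hI
  have hJJ : J * J = 1 := by rw [hJ, ← map_mul, hj2, map_one]
  have hII : I * I = 1 := by rw [hI, ← map_mul, hii, map_one]
  have hIJ : I * J = J * I := by rw [hI, hJ, ← map_mul, ← map_mul, hcomm]
  set Q : Module.End ℂ V := (4 : ℂ)⁻¹ • (1 + J + I + J * I) with hQ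
  have hQ2 : Q * Q = Q := by
    rw [hQ, smul_mul_smul_comm]
    have : (1 + J + I + J * I) * (1 + J + I + J * I) = (4 : ℂ) • (1 + J + I + J * I) := by
      have a1 : J * (J * I) = I := by rw [← mul_assoc, hJJ, one_mul]
      have a2 : I * (J * I) = J := by rw [← mul_assoc, hIJ, mul_assoc, hII, mul_one]
      have a3 : J * I * J = I := by rw [mul_assoc, hIJ, a1]
      have a4 : J * I * I = J := by rw [mul_assoc, hII, mul_one]
      have a5 : J * I * (J * I) = 1 := by rw [← mul_assoc, a3, hII]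
      simp only [mul_add, add_mul, one_mul, mul_one, hJJ, hII, hIJ, a1, a2, a3, a4, a5]
      module
    rw [this, smul_smul]
    norm_num
  have hQt := trace_eq_finrank_range Q hQ2
  rw [show LinearMap.trace ℂ V Q = LinearMap.trace ℂ V ((4 : ℂ)⁻¹ • (1 + J + I + J * I)) from rfl, map_smul, map_add, map_add, map_add, LinearMap.trace_one, hJ, hI, ← map_mul ρ,
    show LinearMap.trace ℂ V (ρ j) = 0 from hjtr, show LinearMap.trace ℂ V (ρ i) = 0 from hz i hii hi1,
    show LinearMap.trace ℂ V (ρ (j * i)) = 0 from hz _ hsq hji1, add_zero, add_zero, add_zero, smul_eq_mul,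
    inv_mul_eq_iff_eq_mul₀ (by norm_num)] at hQt
  have h4 : q * (q - 1) = 4 * Module.finrank ℂ (LinearMap.range Q) := by
    rw [← hk']
    exact_mod_cast hQt
  obtain ⟨p, hp⟩ : ∃ p, q = 4 * p + 3 := ⟨q / 4, by have := card_odd K hn; omega⟩
  have e : q * (q - 1) = 4 * (4 * p * p + 5 * p + 1) + 2 := by
    rw [hp, show 4 * p + 3 - 1 = 4 * p + 2 by omega]; ring
  omega

end CfsgLib.ReeDeg
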